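import Cfsg.Agent.H4.U43.Syl
import Cfsg.Agent.H4.Bar
import Cfsg.Agent.H4.SevenOdd

/-!
# `U₄(3)`: no member of `ℒ_f(G, T)` has `L/O₂(L) ≃ A₅` (helper4)
-/

set_option autoImplicit false
set_option linter.unusedVariables false

namespace Cfsg.Agent.H4.U43

open Subgroup Cfsg.Agent.LargeExtra.W2.CM Cfsg.Agent.LargeExtra.W2.U43 Cfsg.Agent.LargeExtra.W2.U43.ExistsD
open Cfsg.Agent.H4.Row128 Cfsg.Agent.H4.Bar Cfsg.Agent.H4.SevenOdd Cfsg.Agent.H4.Lf Cfsg.Agent.H4.Small
open scoped commutatorElement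

universe u

variable {G : Type u} [Group G] {Q : Subgroup G} {z i j k l x₁ x₂ y s : G}

section

variable [Finite G]

/-- elements `EV t`, `K1 t`, lie in `⟨z, ik, jl, s⟩` -/
theorem k1_mem (h : Tw Q z i j k l x₁ x₂ y s) {U : Subgroup G} (h1 : z ∈ U) (h2 : i * k ∈ U) (h3 : j * l ∈ U)
    (h4 : s ∈ U) {t : T} (ht : K1 t = true) : t.ev z i j k l x₁ x₂ y s ∈ U := by
  have R := h.rules
  have emul : ∀ t u : T, t.ev z i j k l x₁ x₂ y s * u.ev z i j k l x₁ x₂ y s =
    (mu t u).ev z i j k l x₁ x₂ y s := fun t u => ev_mul R t u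
  have eik : tik.ev z i j k l x₁ x₂ y s = i * k := by rw [tik, ← emul, ev_i, ev_k]
  have ejl : tjl.ev z i j k l x₁ x₂ y s = j * l := by rw [tjl, ← emul, ev_j, ev_l]
  have m0 : (T.one).ev z i j k l x₁ x₂ y s ∈ U := by rw [ev_one]; exact one_mem _
  have m1 : tz.ev z i j k l x₁ x₂ y s ∈ U := by rw [ev_z]; exact h1
  have m2 : tik.ev z i j k l x₁ x₂ y s ∈ U := by rw [eik]; exact h2
  have m3 : tjl.ev z i j k l x₁ x₂ y s ∈ U := by rw [ejl]; exact h3
  have m4 : ts.ev z i j k l x₁ x₂ y s ∈ U := by rw [ev_s]; exact h4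
  have hcond : ∀ (b : Bool) (v : T), v.ev z i j k l x₁ x₂ y s ∈ U →
      (bif b then v else T.one).ev z i j k l x₁ x₂ y s ∈ U := by
    intro b v hv
    cases b
    · exact m0
    · exact hv
  have key : mu (mu (bif t.w.s then tz else T.one) (bif t.w.a then tik else T.one))
      (mu (bif t.w.b then tjl else T.one) (bif t.f then ts else T.one)) = t := by
    rw [K1.eq ht]
    obtain ⟨⟨s', a, b, c, d⟩, m, n, e, f⟩ := t
    cases s' <;> cases a <;> cases b <;> cases f <;> rfl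
  rw [← key, ← emul, ← emul, ← emul]
  exact mul_mem (mul_mem (hcond _ _ m1) (hcond _ _ m2)) (mul_mem (hcond _ _ m3) (hcond _ _ m4))

/-- **No `A₅`.** -/
theorem no_five (h : Tw Q z i j k l x₁ x₂ y s) (hs : IsConj z s) (hG : Nat.card G = 3265920)
    (hI : InvPrime G 7) (S : Sylow 2 G) (hT : (S : Subgroup G) = T0 h) {L : Subgroup G}
    (hL : L ∈ calLf (S : Subgroup G)) (hz : z ∈ UU L) (hik : i * k ∈ UU L) (hjl : j * l ∈ UU L) (hsU : s ∈ UU L)
    (h7 : ¬ 7 ∣ Nat.card ↥L) (hQ : Nat.card (↥L ⧸ pCore 2 ↥L) = 60)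
    (e : ↥L ⧸ pCore 2 ↥L ≃* alternatingGroup (Fin 5)) : False := by
  have h2f : Fact (Nat.Prime 2) := ⟨Nat.prime_two⟩
  have R := h.rules
  have inj := ev_inj h.toCase9aa R
  have emul : ∀ t u : T, t.ev z i j k l x₁ x₂ y s * u.ev z i j k l x₁ x₂ y s =
    (mu t u).ev z i j k l x₁ x₂ y s := fun t u => ev_mul R t u
  have hSC : SelfCent (S : Subgroup G) := by rw [hT]; exact selfCent h
  obtain ⟨hcore, h16⟩ := core_eq S hSC hL h7
  have hcc := card_core S hSC hL h7
  obtain ⟨hAL, hA⟩ := acts_inner hL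
  have hUL : UU L ≤ L := hAL
  -- `|L| = 960`
  have hLc : Nat.card ↥L = 960 := by
    rw [H5.Top.card_eq_mul (X := ↥L), hcc, hQ]
  -- `T` normalizes `L`
  have hsimple : IsSimpleGroup (↥L ⧸ pCore 2 ↥L) := e.isSimpleGroup
  have hTL : (S : Subgroup G) ≤ normalizer (L : Set G) :=
    le_normalizer S hL.1 (p := 5) (by norm_num) (by norm_num) (by rw [hLc]; norm_num) (by rw [hG]; norm_num) hsimple
  have hTc : Nat.card ↥(S : Subgroup G) = 128 := by rw [hT]; exact card_T0 h
  -- `U`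
  have hUeq : UU L = closure ({z, i * k, j * l, s} : Set G) := by
    apply le_antisymm
    · intro u hu
      obtain ⟨t, ht, rfl⟩ := cent1 h (hA.comm u hu z hz) (hA.comm u hu _ hik) (hA.comm u hu _ hjl) (hA.comm u hu s hsU)
      exact k1_mem h (subset_closure (by simp)) (subset_closure (by simp)) (subset_closure (by simp))
        (subset_closure (by simp)) ht
    · rw [closure_le]
      rintro x (rfl | rfl | rfl | rfl)
      · exact hz
      · exact hik
      · exact hjl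
      · exact hsU
  have hCU : ∀ x : G, (∀ u ∈ UU L, x * u = u * x) → ∃ t : T, K1 t = true ∧ x = t.ev z i j k l x₁ x₂ y s := fun x hx =>
    cent1 h (hx z hz) (hx _ hik) (hx _ hjl) (hx s hsU)
  set U : Subgroup G := UU L with hU
  set N : Subgroup G := normalizer (U : Set G) with hN
  have hCle : centralizer (U : Set G) ≤ U := by
    intro x hx
    rw [mem_centralizer_iff] at hx
    obtain ⟨t, ht, rfl⟩ := hCU x (fun u hu => (hx u hu).symm)
    exact k1_mem h hz hik hjl hsU ht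
  have hUC : U ≤ centralizer (U : Set G) := by
    intro u hu
    rw [mem_centralizer_iff]
    intro v hv
    exact hA.comm v hv u hu
  have hCeq : centralizer (U : Set G) = U := le_antisymm hCle hUC
  -- order of `N`
  have hm : U.relIndex N ∣ 20160 := by
    have h1 := relIndex_eq (L := N) (U := U) le_rfl
    rw [hCeq] at h1
    rw [h1]
    have h2 := Cfsg.Agent.Transfer.ElemAbAut.card_mulAut (T := ↥U) 2 4
      (fun x y => Subtype.ext (hA.comm x x.2 y y.2)) (fun x => Subtype.ext (by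
        show (x : G) ^ 2 = 1
        rw [pow_two]; exact hA.sq x x.2)) (by rw [h16]; norm_num)
    have h3 := Subgroup.card_subgroup_dvd_card (act (L := N) (U := U) le_rfl).range
    rw [h2] at h3
    simpa [Fin.prod_univ_succ] using h3
  have hUN : U ≤ N := le_normalizer
  have hNc : Nat.card ↥N = 16 * U.relIndex N := by
    have h1 := (U.subgroupOf N).card_mul_index
    rw [Nat.card_congr (subgroupOfEquivOfLe hUN).toEquiv, h16] at h1
    exact h1.symm
  have hNG : Nat.card ↥N ∣ 3265920 := by rw [← hG]; exact Subgroup.card_subgroup_dvd_card N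
  have hN7 : ¬ 7 ∣ Nat.card ↥N := by
    intro h7N
    have h7f : Fact (Nat.Prime 7) := ⟨by norm_num⟩
    obtain ⟨⟨x, hxN⟩, ho⟩ := exists_prime_orderOf_dvd_card' 7 h7N
    rw [Subgroup.orderOf_mk] at ho
    have h1 := modEq_one (by norm_num) ho hxN (fun s' hs' hc => hI.fix ho (S := U) hA.isPGroup hs' hc)
    rw [h16] at h1
    exact absurd h1 (by decide)
  have hN5760 : Nat.card ↥N ∣ 5760 := by
    have h1 : U.relIndex N ∣ 204120 := by
      rw [hNc, show 3265920 = 16 * 204120 by norm_num] at hNG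
      exact (Nat.mul_dvd_mul_iff_left (by norm_num)).1 hNG
    have h2 : U.relIndex N ∣ 2520 := by
      have := Nat.dvd_gcd hm h1
      norm_num at this
      exact this
    have h3 : U.relIndex N ∣ 360 := by
      have h4 : Nat.Coprime (U.relIndex N) 7 := by
        rw [Nat.coprime_comm, Nat.Prime.coprime_iff_not_dvd (by norm_num)]
        intro h5
        apply hN7
        rw [hNc]; exact h5.mul_left _
      have h5 : U.relIndex N ∣ 360 * 7 := h2
      exact h4.dvd_of_dvd_mul_right h5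
    rw [hNc, show 5760 = 16 * 360 by norm_num]
    exact mul_dvd_mul_left 16 h3
  -- `H = L T`
  have hLN : L ≤ N := hA.norm
  have hTN : (S : Subgroup G) ≤ N := by
    have h1 : normalizer (L : Set G) ≤ normalizer (((pCore 2 ↥L).map L.subtype : Subgroup G) : Set G) := by
      exact Cfsg.Agent.H4.Bar.normalizer_le_core L
    rw [hcore] at h1
    exact hTL.trans h1
  set H : Subgroup G := L ⊔ (S : Subgroup G) with hH
  have hLH : L ≤ H := le_sup_left
  have hTH : (S : Subgroup G) ≤ H := le_sup_right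
  have hHN : H ≤ N := sup_le hLN hTN
  have hHL : H ≤ normalizer (L : Set G) := sup_le le_normalizer hTL
  have hHN5760 : Nat.card ↥H ∣ 5760 := (Subgroup.card_dvd_of_le hHN).trans hN5760
  have h960 : 960 ∣ Nat.card ↥H := hLc ▸ Subgroup.card_dvd_of_le hLH
  have h128 : 128 ∣ Nat.card ↥H := hTc ▸ Subgroup.card_dvd_of_le hTH
  have h1920 : 1920 ∣ Nat.card ↥H := by
    have h1 : 15 ∣ Nat.card ↥H := (by norm_num : 15 ∣ 960).trans h960
    have h2 : Nat.Coprime 128 15 := by norm_num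
    exact (by norm_num : 1920 = 128 * 15) ▸ h2.mul_dvd_of_dvd_of_dvd h128 h1
  have hHNrel : H.relIndex N ∣ 3 := by
    have h1 := (H.subgroupOf N).card_mul_index
    rw [Nat.card_congr (subgroupOfEquivOfLe hHN).toEquiv] at h1
    obtain ⟨m, hm⟩ := h1920
    have h2 : 1920 * H.relIndex N ∣ 1920 * 3 := by
      refine Dvd.dvd.trans ?_ (hN5760.trans (by norm_num : 5760 ∣ 1920 * 3))
      rw [← h1, hm]
      exact mul_dvd_mul (dvd_mul_right _ _) dvd_rfl
    exact (Nat.mul_dvd_mul_iff_left (by norm_num)).1 h2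
  -- `|T : T ∩ L| = 2`
  have hTL2 : (L.subgroupOf (S : Subgroup G)).index = 2 := by
    have h1 := (L.subgroupOf (S : Subgroup G)).card_mul_index
    rw [hTc] at h1
    have h2 := not_two_dvd_index S hL.1
    have h3 := ((S : Subgroup G).subgroupOf L).card_mul_index
    rw [hLc] at h3
    have h4 : Nat.card ↥((S : Subgroup G).subgroupOf L) = Nat.card ↥(L.subgroupOf (S : Subgroup G)) := by
      have e1 := Nat.card_congr (((S : Subgroup G).subgroupOf L).equivMapOfInjective _ L.subtype_injective).toEquiv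
      have e2 := Nat.card_congr ((L.subgroupOf (S : Subgroup G)).equivMapOfInjective _ (S : Subgroup G).subtype_injective).toEquiv
      rw [e1, e2, Subgroup.subgroupOf_map_subtype, Subgroup.subgroupOf_map_subtype, inf_comm]
    rw [h4] at h3
    have h5 : Nat.card ↥(L.subgroupOf (S : Subgroup G)) ∣ 2 ^ 7 := by
      rw [show 2 ^ 7 = 128 by norm_num, ← hTc]; exact Subgroup.card_subgroup_dvd_card _
    obtain ⟨c, hc, hc'⟩ := (Nat.dvd_prime_pow Nat.prime_two).1 h5
    rw [hc'] at h1 h3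
    have h6 : c = 6 := by
      interval_cases c
      · exfalso; apply h2; rw [show ((S : Subgroup G).subgroupOf L).index = 960 by omega]; norm_num
      · exfalso; apply h2; rw [show ((S : Subgroup G).subgroupOf L).index = 480 by omega]; norm_num
      · exfalso; apply h2; rw [show ((S : Subgroup G).subgroupOf L).index = 240 by omega]; norm_num
      · exfalso; apply h2; rw [show ((S : Subgroup G).subgroupOf L).index = 120 by omega]; norm_num
      · exfalso; apply h2; rw [show ((S : Subgroup G).subgroupOf L).index = 60 by omega]; norm_num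
      · exfalso; apply h2; rw [show ((S : Subgroup G).subgroupOf L).index = 30 by omega]; norm_num
      · rfl
      · exfalso; omega
    rw [h6] at h1
    omega
  have hHL2 : L.relIndex H = 2 := by
    rw [hH, sup_comm]
    have i1 : (L.subgroupOf (S : Subgroup G)).Normal := Subgroup.normal_subgroupOf_of_le_normalizer hTL
    have i2 : (L.subgroupOf ((S : Subgroup G) ⊔ L)).Normal := Subgroup.normal_subgroupOf_sup_of_le_normalizer hTL
    have h1 := Nat.card_congr (QuotientGroup.quotientInfEquivProdNormalizerQuotient (S : Subgroup G) L hTL).toEquiv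
    exact h1.symm.trans hTL2
  have hNL : N ≤ normalizer (L : Set G) := le_normalizer_of_index hLH hHN hHL (perfect hL.1) hHL2 hHNrel
  -- `ij ∈ L`
  have hiT : i ∈ (S : Subgroup G) := by
    rw [hT]; exact ⟨ti, rfl, ev_i.symm⟩
  have hyT : y ∈ (S : Subgroup G) := by
    rw [hT]; exact ⟨ty, rfl, ev_y.symm⟩
  have hij : i * j ∈ L := by
    have h1 : (⟨y, hyT⟩ * ⟨i, hiT⟩ * ⟨y, hyT⟩⁻¹ * ⟨i, hiT⟩⁻¹ : ↥(S : Subgroup G)) ∈ L.subgroupOf (S : Subgroup G) := by
      simp only [Subgroup.mul_mem_iff_of_index_two hTL2, inv_mem_iff]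
      tauto
    have h2 : y * i * y⁻¹ * i⁻¹ ∈ L := h1
    have h3 : y * i * y⁻¹ * i⁻¹ = z * (i * j) := by
      rw [mul_inv_eq_iff_eq_mul, mul_inv_eq_iff_eq_mul]
      coll R
    rw [h3] at h2
    have h4 := mul_mem (hUL hz) h2
    rwa [← mul_assoc, R.zz, one_mul] at h4
  have hijz : i * j * z = z * (i * j) := by coll R
  have hijs : i * j * s ≠ s * (i * j) := by
    intro hh
    have h1 : (mu (mu ti tj) ts).ev z i j k l x₁ x₂ y s = (mu ts (mu ti tj)).ev z i j k l x₁ x₂ y s := by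
      rw [← emul (mu ti tj) ts, ← emul ts (mu ti tj), ← emul, ev_i, ev_j, ev_s]; exact hh
    exact absurd (congrArg (fun t : T => t.w.a) (inj h1)) (by decide)
  -- moving `z`
  have fin : ∀ ζ : G, ∀ hζ : ζ ∈ normalizer (L : Set G), bar L ⟨ζ, hζ⟩ = 1 →
      (ζ * z * ζ⁻¹ = s ∨ ζ * z * ζ⁻¹ = s * z) → False := by
    intro ζ hζ hb hw
    obtain ⟨u, hu, hu'⟩ := bar_one L hb hij
    rw [hcore] at hu
    obtain ⟨w, hw'⟩ : ∃ w, w = ζ * z * ζ⁻¹ := ⟨_, rfl⟩
    have hwU : w ∈ U := by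
      rcases hw with hw | hw
      · rw [hw', hw]; exact hsU
      · rw [hw', hw]; exact mul_mem hsU hz
    have hζz : ζ * z = w * ζ := by rw [hw']; group
    have huw : u * w = w * u := hA.comm u hu w hwU
    have e1 : ζ * (i * j) * z = u * (i * j) * w * ζ := by
      have : ζ * (i * j) = u * (i * j) * ζ := hu'
      rw [this, mul_assoc, hζz]; group
    have e2 : ζ * (i * j) * z = u * w * (i * j) * ζ := by
      have h0 : ζ * (i * j) = u * (i * j) * ζ := hu'
      rw [mul_assoc, hijz, ← mul_assoc, hζz, mul_assoc, h0, huw]; group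
    have e3 : i * j * w = w * (i * j) := by
      have h1 := e1.symm.trans e2
      have h2 := mul_right_cancel h1
      rw [mul_assoc u, mul_assoc u] at h2
      exact mul_left_cancel h2
    rcases hw with hw | hw
    · rw [hw', hw] at e3; exact hijs e3
    · rw [hw', hw] at e3
      apply hijs
      have h1 : i * j * s * z = s * (i * j) * z := by
        rw [mul_assoc s, hijz, mul_assoc (i * j), e3]; group
      exact mul_right_cancel h1
  -- the elements `d`, `ρ`
  obtain ⟨d, D⟩ := exists_del h hs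
  have hd3 : d ^ 3 = 1 := D.d3
  have hdN : d ∈ N := by
    show d ∈ normalizer (U : Set G)
    rw [hUeq]
    apply mem_normalizer_closure
    intro x hx
    simp only [Set.mem_insert_iff, Set.mem_singleton_iff] at hx
    rcases hx with hx | hx | hx | hx
    · rw [hx, D.dz]; exact subset_closure (by simp)
    · rw [hx, D.dik, mul_inv_cancel_right]; exact subset_closure (by simp)
    · rw [hx, D.djl, mul_inv_cancel_right]; exact subset_closure (by simp)
    · rw [hx, D.ds]; exact mul_mem (subset_closure (by simp)) (subset_closure (by simp))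
  have rz : x₁ * x₂ * z * (x₁ * x₂)⁻¹ = z := by rw [mul_inv_eq_iff_eq_mul]; coll R
  have rik : x₁ * x₂ * (i * k) * (x₁ * x₂)⁻¹ = j * l := by rw [mul_inv_eq_iff_eq_mul]; coll R
  have rjl : x₁ * x₂ * (j * l) * (x₁ * x₂)⁻¹ = i * k * (j * l) := by rw [mul_inv_eq_iff_eq_mul]; coll R
  have rs : x₁ * x₂ * s * (x₁ * x₂)⁻¹ = s := by rw [mul_inv_eq_iff_eq_mul]; coll R
  have hrN : x₁ * x₂ ∈ N := by
    show x₁ * x₂ ∈ normalizer (U : Set G)
    rw [hUeq]
    apply mem_normalizer_closure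
    intro x hx
    simp only [Set.mem_insert_iff, Set.mem_singleton_iff] at hx
    rcases hx with hx | hx | hx | hx
    · rw [hx, rz]; exact subset_closure (by simp)
    · rw [hx, rik]; exact subset_closure (by simp)
    · rw [hx, rjl]; exact mul_mem (subset_closure (by simp)) (subset_closure (by simp))
    · rw [hx, rs]; exact subset_closure (by simp)
  have hr3 : (x₁ * x₂) ^ 3 = 1 := by
    rw [pow_succ, pow_two]; coll R
  have hdL := hNL hdN
  have hrL := hNL hrN
  obtain ⟨a, ha⟩ : ∃ a, a = bar L ⟨d, hdL⟩ := ⟨_, rfl⟩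
  obtain ⟨b, hb⟩ : ∃ b, b = bar L ⟨x₁ * x₂, hrL⟩ := ⟨_, rfl⟩
  have ha3 : a ^ 3 = 1 := by
    rw [ha, ← map_pow]
    have : (⟨d, hdL⟩ : ↥(normalizer (L : Set G))) ^ 3 = 1 := Subtype.ext hd3
    rw [this, map_one]
  have hb3 : b ^ 3 = 1 := by
    rw [hb, ← map_pow]
    have : (⟨x₁ * x₂, hrL⟩ : ↥(normalizer (L : Set G))) ^ 3 = 1 := Subtype.ext hr3
    rw [this, map_one]
  have hab : a * b = b * a := by
    rw [ha, hb, ← map_mul, ← map_mul]
    congr 1
    exact Subtype.ext D.dr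
  have dzi : d⁻¹ * z * d = s * z := by
    have h1 : d ^ 3 = d * (d * d) := by rw [pow_succ, pow_two, mul_assoc]
    calc d⁻¹ * z * d = d⁻¹ * (d * (d * d) * z * (d * (d * d))⁻¹) * d := by rw [← h1, hd3]; group
      _ = d * (d * z * d⁻¹) * d⁻¹ := by group
      _ = s * z := by rw [D.dz, D.ds]
  by_cases ha1 : a = 1
  · exact fin d hdL (by rw [← ha, ha1]) (Or.inl D.dz)
  have h9 : ¬ 9 ∣ Nat.card (MulAut (↥L ⧸ pCore 2 ↥L)) := by
    rw [Nat.card_congr (MulAut.congr e).toEquiv]; exact not_nine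
  obtain ⟨m, hm'⟩ := mem_zpowers_of_comm h9 ha3 hb3 ha1 hab
  have hmod : a ^ m = a ^ (m % 3) := pow_eq_pow_mod m ha3
  have hlt : m % 3 < 3 := Nat.mod_lt _ (by norm_num)
  rw [hmod] at hm'
  obtain ⟨c, hc⟩ : ∃ c, c = m % 3 := ⟨_, rfl⟩
  rw [← hc] at hm' hlt
  interval_cases c
  · -- `ζ = ρ`
    rw [pow_zero] at hm'
    obtain ⟨u, hu, hu'⟩ := bar_one L (g := ⟨x₁ * x₂, hrL⟩) (by rw [← hb, hm']) hij
    rw [hcore] at hu
    obtain ⟨t, ht, rfl⟩ := hCU u (fun v hv => hA.comm u hu v hv)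
    apply R1 ht
    apply inj
    show (mu tr (mu ti tj)).ev z i j k l x₁ x₂ y s = (mu (mu t (mu ti tj)) tr).ev z i j k l x₁ x₂ y s
    rw [← emul tr (mu ti tj), ← emul (mu t (mu ti tj)) tr, ← emul t (mu ti tj), ← emul ti tj, tr, ← emul tx₁ tx₂, ev_i, ev_j,
      ev_x₁, ev_x₂]
    exact hu'
  · -- `ζ = ρ d⁻¹`
    rw [pow_one] at hm'
    have h1 : bar L ⟨x₁ * x₂ * d⁻¹, mul_mem hrL (inv_mem hdL)⟩ = 1 := by
      have h2 : (⟨x₁ * x₂ * d⁻¹, mul_mem hrL (inv_mem hdL)⟩ : ↥(normalizer (L : Set G))) =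
        ⟨x₁ * x₂, hrL⟩ * ⟨d, hdL⟩⁻¹ := rfl
      rw [h2, map_mul, map_inv, ← ha, ← hb, hm', mul_inv_cancel]
    refine fin _ _ h1 (Or.inr ?_)
    calc x₁ * x₂ * d⁻¹ * z * (x₁ * x₂ * d⁻¹)⁻¹ = x₁ * x₂ * (d⁻¹ * z * d) * (x₁ * x₂)⁻¹ := by group
      _ = (x₁ * x₂ * s * (x₁ * x₂)⁻¹) * (x₁ * x₂ * z * (x₁ * x₂)⁻¹) := by rw [dzi]; group
      _ = s * z := by rw [rs, rz]
  · -- `ζ = ρ d`
    have h1 : bar L ⟨x₁ * x₂ * d, mul_mem hrL hdL⟩ = 1 := by
      have h2 : (⟨x₁ * x₂ * d, mul_mem hrL hdL⟩ : ↥(normalizer (L : Set G))) =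
        ⟨x₁ * x₂, hrL⟩ * ⟨d, hdL⟩ := rfl
      rw [h2, map_mul, ← ha, ← hb, hm', ← pow_succ, ha3]
    refine fin _ _ h1 (Or.inl ?_)
    calc x₁ * x₂ * d * z * (x₁ * x₂ * d)⁻¹ = x₁ * x₂ * (d * z * d⁻¹) * (x₁ * x₂)⁻¹ := by group
      _ = s := by rw [D.dz, rs]

end

end Cfsg.Agent.H4.U43
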