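import Cfsg.Agent.H4.U43.Model
import Cfsg.Agent.H4.Row128

/-!
# The Sylow 2-subgroup of `U₄(3)` (helper4)

`T₀ = ⟨i, j, k, l, y, s⟩` has order 128, and its elementary abelian subgroups of order 16 are
`{ev t | K1 t}` and `{ev t | K2 t}`; they are self-centralizing.
-/

set_option autoImplicit false
set_option linter.unusedVariables false
set_option linter.unusedSectionVars false

namespace Cfsg.Agent.H4.U43

open Subgroup Cfsg.Agent.LargeExtra.W2.CM Cfsg.Agent.LargeExtra.W2.U43 Cfsg.Agent.LargeExtra.W2.U43.ExistsD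
open Cfsg.Agent.H4.Row128

universe u

variable {G : Type u} [Group G] {Q : Subgroup G} {z i j k l x₁ x₂ y s : G}

/-- pairs of Booleans: the elements of the Sylow subgroup -/
def p0Equiv : {t : T // P0 t = true} ≃ Bool × Bool × Bool × Bool × Bool × Bool × Bool where
  toFun t := ⟨t.1.w.s, t.1.w.a, t.1.w.b, t.1.w.c, t.1.w.d, t.1.e, t.1.f⟩
  invFun u := ⟨⟨⟨u.1, u.2.1, u.2.2.1, u.2.2.2.1, u.2.2.2.2.1⟩, C3.o, C3.o, u.2.2.2.2.2.1, u.2.2.2.2.2.2⟩, rfl⟩
  left_inv t := by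
    obtain ⟨t, ht⟩ := t
    apply Subtype.ext
    exact (P0.eq ht).symm
  right_inv _ := rfl

theorem card_p0 : Nat.card {t : T // P0 t = true} = 128 := by
  rw [Nat.card_congr p0Equiv, Nat.card_eq_fintype_card]
  rfl

section

variable [Finite G]

theorem exists_pow0 (h : Tw Q z i j k l x₁ x₂ y s) {t : T} (ht : P0 t = true) (n : ℕ) :
    ∃ u : T, P0 u = true ∧ (t.ev z i j k l x₁ x₂ y s) ^ n = u.ev z i j k l x₁ x₂ y s := by
  induction n with
  | zero => exact ⟨T.one, rfl, by rw [pow_zero, ev_one]⟩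
  | succ n ih =>
    obtain ⟨u, hu, hu'⟩ := ih
    exact ⟨mu u t, P0.mul hu ht, by rw [pow_succ, hu', ev_mul h.rules]; rfl⟩

/-- the Sylow 2-subgroup -/
def T0 (h : Tw Q z i j k l x₁ x₂ y s) : Subgroup G where
  carrier := {x | ∃ t : T, P0 t = true ∧ x = t.ev z i j k l x₁ x₂ y s}
  one_mem' := ⟨T.one, rfl, ev_one.symm⟩
  mul_mem' := by
    rintro _ _ ⟨t, ht, rfl⟩ ⟨u, hu, rfl⟩
    exact ⟨mu t u, P0.mul ht hu, ev_mul h.rules t u⟩
  inv_mem' := by
    rintro _ ⟨t, ht, rfl⟩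
    obtain ⟨u, hu, hu'⟩ := exists_pow0 h ht (orderOf (t.ev z i j k l x₁ x₂ y s) - 1)
    refine ⟨u, hu, ?_⟩
    rw [← hu', inv_eq_iff_mul_eq_one, ← pow_succ', Nat.sub_add_cancel (orderOf_pos _), pow_orderOf_eq_one]

theorem mem_T0 (h : Tw Q z i j k l x₁ x₂ y s) {x : G} :
    x ∈ T0 h ↔ ∃ t : T, P0 t = true ∧ x = t.ev z i j k l x₁ x₂ y s := Iff.rfl

theorem card_T0 (h : Tw Q z i j k l x₁ x₂ y s) : Nat.card ↥(T0 h) = 128 := by
  rw [← card_p0]
  refine (Nat.card_congr (Equiv.ofBijective (fun t : {t : T // P0 t = true} =>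
    (⟨t.1.ev z i j k l x₁ x₂ y s, t.1, t.2, rfl⟩ : ↥(T0 h))) ⟨?_, ?_⟩)).symm
  · intro t u htu
    exact Subtype.ext (ev_inj h.toCase9aa h.rules (congrArg Subtype.val htu))
  · rintro ⟨x, t, ht, rfl⟩
    exact ⟨⟨t, ht⟩, rfl⟩

theorem K1.p0 {t : T} (h : K1 t = true) : P0 t = true := by
  simp only [K1, Bool.and_eq_true] at h
  exact h.1

theorem K2.p0 {t : T} (h : K2 t = true) : P0 t = true := by
  simp only [K2, Bool.and_eq_true] at h
  exact h.1

/-- **the elementary abelian subgroups of order 16** -/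
theorem elem (h : Tw Q z i j k l x₁ x₂ y s) {U : Subgroup G} (hU : U ≤ T0 h)
    (hc : ∀ a ∈ U, ∀ b ∈ U, a * b = b * a) (h2 : ∀ a ∈ U, a * a = 1) (h16 : Nat.card ↥U = 16) :
    (∀ x ∈ U, ∃ t : T, K1 t = true ∧ x = t.ev z i j k l x₁ x₂ y s) ∨
    (∀ x ∈ U, ∃ t : T, K2 t = true ∧ x = t.ev z i j k l x₁ x₂ y s) := by
  have R := h.rules
  have inj := ev_inj h.toCase9aa R
  have emul : ∀ t u : T, t.ev z i j k l x₁ x₂ y s * u.ev z i j k l x₁ x₂ y s =
    (mu t u).ev z i j k l x₁ x₂ y s := fun t u => ev_mul R t u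
  have hsq : ∀ t : T, t.ev z i j k l x₁ x₂ y s ∈ U → mu t t = T.one := by
    intro t ht
    apply inj
    show (mu t t).ev z i j k l x₁ x₂ y s = T.one.ev z i j k l x₁ x₂ y s
    rw [← emul, ev_one]
    exact h2 _ ht
  have hcm : ∀ t u : T, t.ev z i j k l x₁ x₂ y s ∈ U → u.ev z i j k l x₁ x₂ y s ∈ U → mu t u = mu u t := by
    intro t u ht hu
    apply inj
    show (mu t u).ev z i j k l x₁ x₂ y s = (mu u t).ev z i j k l x₁ x₂ y s
    rw [← emul, ← emul]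
    exact hc _ ht _ hu
  by_cases hA : ∃ t : T, t.ev z i j k l x₁ x₂ y s ∈ U ∧ K1 t = true ∧ t.f = true
  · obtain ⟨u, hu, hu1, hu2⟩ := hA
    left
    intro x hx
    obtain ⟨t, ht, rfl⟩ := hU hx
    exact ⟨t, D2 hu1 hu2 ht (hsq t hx) (hcm t u hx hu), rfl⟩
  by_cases hB : ∃ t : T, t.ev z i j k l x₁ x₂ y s ∈ U ∧ K2 t = true ∧ t.e = true
  · obtain ⟨u, hu, hu1, hu2⟩ := hB
    right
    intro x hx
    obtain ⟨t, ht, rfl⟩ := hU hx
    exact ⟨t, D2' hu1 hu2 ht (hsq t hx) (hcm t u hx hu), rfl⟩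
  exfalso
  have key : ∀ x : ↥U, ∃ t : T, P0 t = true ∧ (x : G) = t.ev z i j k l x₁ x₂ y s ∧ t.e = false ∧ t.f = false := by
    rintro ⟨x, hx⟩
    obtain ⟨t, ht, rfl⟩ := hU hx
    rcases D1 ht (hsq t hx) with h1 | h1 | h1
    · exact ⟨t, ht, rfl, h1⟩
    · exact (hA ⟨t, hx, h1⟩).elim
    · exact (hB ⟨t, hx, h1⟩).elim
  choose φ h1 h2 h3 using key
  have hinj : Function.Injective (fun x : ↥U => ((φ x).w.s, (φ x).w.a, (φ x).w.b)) := by
    intro a b hab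
    simp only [Prod.mk.injEq] at hab
    have ha : (φ a).ev z i j k l x₁ x₂ y s ∈ U := h2 a ▸ a.2
    have hb : (φ b).ev z i j k l x₁ x₂ y s ∈ U := h2 b ▸ b.2
    have := D3 (h1 a) (h1 b) (h3 a).1 (h3 a).2 (h3 b).1 (h3 b).2 (hsq _ ha) (hsq _ hb) (hcm _ _ ha hb)
      hab.1 hab.2.1 hab.2.2
    apply Subtype.ext
    rw [h2 a, h2 b, this]
  have h8 := Nat.card_le_card_of_injective _ hinj
  rw [h16, Nat.card_eq_fintype_card (α := Bool × Bool × Bool)] at h8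
  exact absurd h8 (by decide)

/-- elements commuting with `z, ik, jl, s` -/
theorem cent1 (h : Tw Q z i j k l x₁ x₂ y s) {x : G} (hz : x * z = z * x) (h1 : x * (i * k) = i * k * x)
    (h2 : x * (j * l) = j * l * x) (h3 : x * s = s * x) : ∃ t : T, K1 t = true ∧ x = t.ev z i j k l x₁ x₂ y s := by
  have R := h.rules
  have inj := ev_inj h.toCase9aa R
  have emul : ∀ t u : T, t.ev z i j k l x₁ x₂ y s * u.ev z i j k l x₁ x₂ y s =
    (mu t u).ev z i j k l x₁ x₂ y s := fun t u => ev_mul R t u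
  obtain ⟨t, rfl⟩ := exists_ev h.toCase9aa R hz
  have eik : tik.ev z i j k l x₁ x₂ y s = i * k := by rw [tik, ← emul, ev_i, ev_k]
  have ejl : tjl.ev z i j k l x₁ x₂ y s = j * l := by rw [tjl, ← emul, ev_j, ev_l]
  refine ⟨t, E1 ?_ ?_ ?_, rfl⟩
  · apply inj
    show (mu t tik).ev z i j k l x₁ x₂ y s = (mu tik t).ev z i j k l x₁ x₂ y s
    rw [← emul, ← emul, eik]; exact h1
  · apply inj
    show (mu t tjl).ev z i j k l x₁ x₂ y s = (mu tjl t).ev z i j k l x₁ x₂ y s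
    rw [← emul, ← emul, ejl]; exact h2
  · apply inj
    show (mu t ts).ev z i j k l x₁ x₂ y s = (mu ts t).ev z i j k l x₁ x₂ y s
    rw [← emul, ← emul, ev_s]; exact h3

/-- elements commuting with `z, il, jk, ys` -/
theorem cent2 (h : Tw Q z i j k l x₁ x₂ y s) {x : G} (hz : x * z = z * x) (h1 : x * (i * l) = i * l * x)
    (h2 : x * (j * k) = j * k * x) (h3 : x * (y * s) = y * s * x) :
    ∃ t : T, K2 t = true ∧ x = t.ev z i j k l x₁ x₂ y s := by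
  have R := h.rules
  have inj := ev_inj h.toCase9aa R
  have emul : ∀ t u : T, t.ev z i j k l x₁ x₂ y s * u.ev z i j k l x₁ x₂ y s =
    (mu t u).ev z i j k l x₁ x₂ y s := fun t u => ev_mul R t u
  obtain ⟨t, rfl⟩ := exists_ev h.toCase9aa R hz
  refine ⟨t, E2 ?_ ?_ ?_, rfl⟩
  · apply inj
    show (mu t (mu ti tl)).ev z i j k l x₁ x₂ y s = (mu (mu ti tl) t).ev z i j k l x₁ x₂ y s
    rw [← emul t, ← emul (mu ti tl) t, ← emul, ev_i, ev_l]; exact h1
  · apply inj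
    show (mu t (mu tj tk)).ev z i j k l x₁ x₂ y s = (mu (mu tj tk) t).ev z i j k l x₁ x₂ y s
    rw [← emul t, ← emul (mu tj tk) t, ← emul, ev_j, ev_k]; exact h2
  · apply inj
    show (mu t (mu ty ts)).ev z i j k l x₁ x₂ y s = (mu (mu ty ts) t).ev z i j k l x₁ x₂ y s
    rw [← emul t, ← emul (mu ty ts) t, ← emul, ev_y, ev_s]; exact h3

/-- the elements `EV t`, `K1 t`, as Booleans -/
def k1Equiv : {t : T // K1 t = true} ≃ Bool × Bool × Bool × Bool where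
  toFun t := ⟨t.1.w.s, t.1.w.a, t.1.w.b, t.1.f⟩
  invFun u := ⟨⟨⟨u.1, u.2.1, u.2.2.1, u.2.1, u.2.2.1⟩, C3.o, C3.o, false, u.2.2.2⟩, by
    obtain ⟨s, a, b, f⟩ := u
    cases a <;> cases b <;> rfl⟩
  left_inv t := by
    obtain ⟨t, ht⟩ := t
    apply Subtype.ext
    exact (K1.eq ht).symm
  right_inv _ := rfl

def k2Equiv : {t : T // K2 t = true} ≃ Bool × Bool × Bool × Bool where
  toFun t := ⟨t.1.w.s, t.1.w.a, t.1.w.b, t.1.f⟩
  invFun u := ⟨⟨⟨u.1, u.2.1, u.2.2.1, u.2.2.1, u.2.1⟩, C3.o, C3.o, u.2.2.2, u.2.2.2⟩, by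
    obtain ⟨s, a, b, f⟩ := u
    cases a <;> cases b <;> cases f <;> rfl⟩
  left_inv t := by
    obtain ⟨t, ht⟩ := t
    apply Subtype.ext
    exact (K2.eq ht).symm
  right_inv _ := rfl

/-- a subgroup of order 16 contained in `{EV t | P t}` with 16 elements is all of it -/
theorem mem_of_card (h : Tw Q z i j k l x₁ x₂ y s) {U : Subgroup G} {P : T → Bool}
    (hP : Nat.card {t : T // P t = true} = 16) (h16 : Nat.card ↥U = 16)
    (hU : ∀ x ∈ U, ∃ t : T, P t = true ∧ x = t.ev z i j k l x₁ x₂ y s) {t : T} (ht : P t = true) :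
    t.ev z i j k l x₁ x₂ y s ∈ U := by
  choose φ h1 h2 using hU
  let f : ↥U → {t : T // P t = true} := fun x => ⟨φ x.1 x.2, h1 x.1 x.2⟩
  have hf : Function.Injective f := by
    intro a b hab
    have h3 : φ a.1 a.2 = φ b.1 b.2 := congrArg Subtype.val hab
    apply Subtype.ext
    rw [h2 a.1 a.2, h2 b.1 b.2, h3]
  have hb : Function.Bijective f := by
    rw [Nat.bijective_iff_injective_and_card]
    exact ⟨hf, by rw [hP, h16]⟩
  obtain ⟨a, ha⟩ := hb.2 ⟨t, ht⟩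
  have h3 : φ a.1 a.2 = t := congrArg Subtype.val ha
  rw [← h3, ← h2 a.1 a.2]
  exact a.2

theorem card_k1 : Nat.card {t : T // K1 t = true} = 16 := by
  rw [Nat.card_congr k1Equiv, Nat.card_eq_fintype_card]
  rfl

theorem card_k2 : Nat.card {t : T // K2 t = true} = 16 := by
  rw [Nat.card_congr k2Equiv, Nat.card_eq_fintype_card]
  rfl

theorem gens1 (h : Tw Q z i j k l x₁ x₂ y s) {U : Subgroup G}
    (hU : ∀ t : T, K1 t = true → t.ev z i j k l x₁ x₂ y s ∈ U) : z ∈ U ∧ i * k ∈ U ∧ j * l ∈ U ∧ s ∈ U := by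
  have R := h.rules
  have emul : ∀ t u : T, t.ev z i j k l x₁ x₂ y s * u.ev z i j k l x₁ x₂ y s =
    (mu t u).ev z i j k l x₁ x₂ y s := fun t u => ev_mul R t u
  have eik : tik.ev z i j k l x₁ x₂ y s = i * k := by rw [tik, ← emul, ev_i, ev_k]
  have ejl : tjl.ev z i j k l x₁ x₂ y s = j * l := by rw [tjl, ← emul, ev_j, ev_l]
  refine ⟨?_, ?_, ?_, ?_⟩
  · have := hU tz rfl; rwa [ev_z] at this
  · have := hU tik rfl; rwa [eik] at this
  · have := hU tjl rfl; rwa [ejl] at this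
  · have := hU ts rfl; rwa [ev_s] at this

theorem gens2 (h : Tw Q z i j k l x₁ x₂ y s) {U : Subgroup G}
    (hU : ∀ t : T, K2 t = true → t.ev z i j k l x₁ x₂ y s ∈ U) : z ∈ U ∧ i * l ∈ U ∧ j * k ∈ U ∧ y * s ∈ U := by
  have R := h.rules
  have emul : ∀ t u : T, t.ev z i j k l x₁ x₂ y s * u.ev z i j k l x₁ x₂ y s =
    (mu t u).ev z i j k l x₁ x₂ y s := fun t u => ev_mul R t u
  refine ⟨?_, ?_, ?_, ?_⟩
  · have := hU tz rfl; rwa [ev_z] at this
  · have := hU (mu ti tl) rfl; rwa [← emul, ev_i, ev_l] at this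
  · have := hU (mu tj tk) rfl; rwa [← emul, ev_j, ev_k] at this
  · have := hU (mu ty ts) rfl; rwa [← emul, ev_y, ev_s] at this

/-- the two possibilities for an elementary abelian subgroup of order 16 of `T₀` -/
theorem elem_gens (h : Tw Q z i j k l x₁ x₂ y s) {U : Subgroup G} (hU : U ≤ T0 h)
    (hc : ∀ a ∈ U, ∀ b ∈ U, a * b = b * a) (h2 : ∀ a ∈ U, a * a = 1) (h16 : Nat.card ↥U = 16) :
    (z ∈ U ∧ i * k ∈ U ∧ j * l ∈ U ∧ s ∈ U) ∨ (z ∈ U ∧ i * l ∈ U ∧ j * k ∈ U ∧ y * s ∈ U) := by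
  rcases elem h hU hc h2 h16 with h1 | h1
  · exact Or.inl (gens1 h fun t ht => mem_of_card h card_k1 h16 h1 ht)
  · exact Or.inr (gens2 h fun t ht => mem_of_card h card_k2 h16 h1 ht)

/-- **Self-centralizing.** -/
theorem selfCent (h : Tw Q z i j k l x₁ x₂ y s) : SelfCent (T0 h) := by
  intro U hU hc h2 h16 x _ hx
  rcases elem h hU hc h2 h16 with h1 | h1
  · have hm : ∀ t : T, K1 t = true → t.ev z i j k l x₁ x₂ y s ∈ U := fun t ht => mem_of_card h card_k1 h16 h1 ht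
    obtain ⟨g1, g2, g3, g4⟩ := gens1 h hm
    obtain ⟨t, ht, rfl⟩ := cent1 h (hx _ g1) (hx _ g2) (hx _ g3) (hx _ g4)
    exact hm t ht
  · have hm : ∀ t : T, K2 t = true → t.ev z i j k l x₁ x₂ y s ∈ U := fun t ht => mem_of_card h card_k2 h16 h1 ht
    obtain ⟨g1, g2, g3, g4⟩ := gens2 h hm
    obtain ⟨t, ht, rfl⟩ := cent2 h (hx _ g1) (hx _ g2) (hx _ g3) (hx _ g4)
    exact hm t ht

end

end Cfsg.Agent.H4.U43
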